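import Groth.Agent.EtRpushCons.Generic
import Groth.Agent.EtConsShriek.TensorLocal
import Groth.Agent.EtUnbBC.Main
import Groth.Agent.EtModShriek.Closed
import Groth.Agent.EtPushStalk.Lift
import Groth.Agent.RPlusComp.Etale
import Groth.Agent.EtStrictLoc.CompExact
import Groth.Agent.GrothSS.CompAcyclicNat
import Groth.Agent.ConsFinPush.Main
import Mathlib.CategoryTheory.Monad.Adjunction

/-!
Constructibility of higher direct images along open immersions and along immersions.
-/

set_option autoImplicit false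
set_option backward.isDefEq.respectTransparency false
set_option backward.isDefEq.respectTransparency.types false
set_option linter.style.haveILetI false
set_option linter.unusedSectionVars false

universe u w v

open CategoryTheory CategoryTheory.Limits AlgebraicGeometry Opposite TopologicalSpace

noncomputable section

namespace Groth.Agent.EtRpushCons

open Groth.Agent.EtTrivGen

section Abstract

variable {A B : Type*} [Category A] [Category B] [Abelian A] [Abelian B] [HasInjectiveResolutions A]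

/-- right derived functors of isomorphic functors -/
theorem nonempty_rightDerived_congr {F G : A ⥤ B} [F.Additive] [G.Additive] (e : F ≅ G) (q : ℕ) (M : A) :
    Nonempty ((F.rightDerived q).obj M ≅ (G.rightDerived q).obj M) :=
  ⟨(injectiveResolution M).isoRightDerivedObj F q ≪≫
    (HomologicalComplex.homologyFunctor B (ComplexShape.up ℕ) q).mapIso
      ((NatIso.mapHomologicalComplex e (ComplexShape.up ℕ)).app _) ≪≫
    ((injectiveResolution M).isoRightDerivedObj G q).symm⟩

theorem kernel_ι_factorThruImage {F G : A} (f : F ⟶ G) : kernel.ι f ≫ Abelian.factorThruImage f = 0 := by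
  rw [← cancel_mono (Abelian.image.ι f), Category.assoc, Abelian.image.fac, kernel.condition, zero_comp]

theorem epi_factorThruImage {F G : A} (f : F ⟶ G) : Epi (Abelian.factorThruImage f) := inferInstance

theorem mono_image_ι {F G : A} (f : F ⟶ G) : Mono (Abelian.image.ι f) := inferInstance

/-- `0 → kernel → F → image → 0` -/
theorem shortExact_kernel_image {F G : A} (f : F ⟶ G) :
    (ShortComplex.mk (kernel.ι f) (Abelian.factorThruImage f) (kernel_ι_factorThruImage f)).ShortExact := by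
  refine { exact := ?_ }
  refine ShortComplex.exact_of_f_is_kernel _
    (KernelFork.IsLimit.ofι' _ _ fun φ hφ => ⟨kernel.lift f φ ?_, kernel.lift_ι _ _ _⟩)
  dsimp at φ hφ ⊢
  rw [← Abelian.image.fac f, ← Category.assoc, hφ, zero_comp]

/-- `0 → image → G → cokernel → 0` -/
theorem shortExact_image_cokernel {F G : A} (f : F ⟶ G) :
    (ShortComplex.mk (Abelian.image.ι f) (cokernel.π f) (kernel.condition _)).ShortExact :=
  { exact := ShortComplex.exact_of_f_is_kernel _ (kernelIsKernel _)
    mono_f := inferInstanceAs (Mono (Abelian.image.ι f))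
    epi_g := inferInstanceAs (Epi (cokernel.π f)) }

end Abstract

variable {Λ : Type (u + 1)} [CommRing Λ]

instance preservesFiniteLimits_push {X Y : Scheme.{u}} (f : X ⟶ Y) : PreservesFiniteLimits (EtModW.push Λ f) :=
  haveI : PreservesLimitsOfSize.{0, 0} (EtModW.push Λ f) :=
    (EtSix.pullPushModAdj Λ f).rightAdjoint_preservesLimits
  inferInstance

theorem pull_exact {X Y : Scheme.{u}} (f : X ⟶ Y) : (EtModW.pull Λ f).PreservesHomology := by
  haveI := RPlusComp.pullMod_preservesFiniteLimits Λ f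
  haveI : PreservesColimitsOfSize.{0, 0} (EtModW.pull Λ f) :=
    (EtSix.pullPushModAdj Λ f).leftAdjoint_preservesColimits
  exact Functor.preservesHomologyOfExact _

/-- `i^* i_* = id` for an immersion -/
theorem isIso_counit_imm {X Y : Scheme.{u}} (z : Y ⟶ X) [IsImmersion z] :
    IsIso (EtSix.pullPushModAdj Λ z).counit := by
  let O : X.Opens := z.coborderRange
  let c : Y ⟶ O.toScheme := z.liftCoborder
  haveI : IsClosedImmersion c := inferInstance
  haveI : IsIso (EtSix.pullPushModAdj Λ c).counit :=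
    haveI := EtModShriek.isIso_counit_mod Λ c (EtPushStalk.liftProp_of_closedImmersion c)
    NatIso.isIso_of_isIso_app _
  haveI : IsIso (EtSix.pullPushModAdj Λ O.ι).counit :=
    haveI := EtModShriek.isIso_counit_mod Λ O.ι (EtPushStalk.liftProp_of_openImmersion O.ι)
    NatIso.isIso_of_isIso_app _
  have e₀ : c ≫ O.ι = z := z.liftCoborder_ι
  refine (EtSix.pullPushModAdj Λ z).isIso_counit_of_iso ?_
  refine Functor.isoWhiskerRight ((EtSix.pushModCongr Λ e₀).symm ≪≫ (EtSix.pushModComp Λ O.ι c).symm) _ ≪≫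
    Functor.isoWhiskerLeft _ (eqToIso (congrArg (EtModW.pull Λ) e₀.symm) ≪≫ EtSix.pullModComp Λ c O.ι) ≪≫
    Functor.associator _ _ _ ≪≫
    Functor.isoWhiskerLeft _ (Functor.associator _ _ _).symm ≪≫
    Functor.isoWhiskerLeft _ (Functor.isoWhiskerRight (asIso (EtSix.pullPushModAdj Λ O.ι).counit) _ ≪≫
      Functor.leftUnitor _) ≪≫ asIso (EtSix.pullPushModAdj Λ c).counit

/-- `z^* z_* ≅ id` for an immersion -/
def pullPushIso {X Y : Scheme.{u}} (z : Y ⟶ X) [IsImmersion z] : EtModW.push Λ z ⋙ EtModW.pull Λ z ≅ 𝟭 _ :=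
  haveI := isIso_counit_imm (Λ := Λ) z
  asIso (EtSix.pullPushModAdj Λ z).counit

/-- higher direct images commute with restriction to an open -/
theorem nonempty_pull_Rpush {X Y U : Scheme.{u}} (i : U ⟶ X) [IsOpenImmersion i] (z : Y ⟶ U) (H : EtModW.Mod Λ Y)
    (q : ℕ) : Nonempty ((EtModW.pull Λ i).obj ((EtModW.Rpush Λ (z ≫ i) q).obj H) ≅ (EtModW.Rpush Λ z q).obj H) := by
  haveI := pull_exact (Λ := Λ) i
  let e : EtModW.push Λ (z ≫ i) ⋙ EtModW.pull Λ i ≅ EtModW.push Λ z :=
    Functor.isoWhiskerRight (EtSix.pushModComp Λ i z).symm _ ≪≫ Functor.associator _ _ _ ≪≫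
      Functor.isoWhiskerLeft _ (pullPushIso i) ≪≫ Functor.rightUnitor _
  obtain ⟨e'⟩ := nonempty_rightDerived_congr e q H
  exact ⟨((EtStrictLoc.rightDerivedCompExactIso (EtModW.push Λ (z ≫ i)) (EtModW.pull Λ i) q).app H).symm ≪≫ e'⟩

/-- higher direct images along an immersion vanish on the immersed subscheme -/
theorem isZero_pull_Rpush {X Y : Scheme.{u}} (z : Y ⟶ X) [IsImmersion z] (H : EtModW.Mod Λ Y) (q : ℕ) (hq : 0 < q) :
    IsZero ((EtModW.pull Λ z).obj ((EtModW.Rpush Λ z q).obj H)) := by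
  haveI := pull_exact (Λ := Λ) z
  obtain ⟨e'⟩ := nonempty_rightDerived_congr (pullPushIso (Λ := Λ) z) q H
  exact (EtModShriek.isZero_rightDerived_of_exact (𝟭 (EtModW.Mod Λ Y)) H q hq).of_iso
    (((EtStrictLoc.rightDerivedCompExactIso (EtModW.push Λ z) (EtModW.pull Λ z) q).app H).symm ≪≫ e')

/-- sheaves on the empty scheme vanish -/
theorem isZero_of_isEmpty {X : Scheme.{u}} [IsEmpty X] (M : EtModW.Mod Λ X) : IsZero M :=
  EtUnbBC.isZero_of_local Λ M fun x => isEmptyElim x

/-- higher direct images vanish outside a closed set containing the image -/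
theorem isZero_pull_Rpush_disjoint {X Y : Scheme.{u}} (z : Y ⟶ X) (W : X.Opens) (hW : ∀ y, z y ∉ W)
    (H : EtModW.Mod Λ Y) (q : ℕ) :
    IsZero ((EtModW.pull Λ W.ι).obj ((EtModW.Rpush Λ z q).obj H)) := by
  haveI := pull_exact (Λ := Λ) W.ι
  haveI : IsEmpty (z ⁻¹ᵁ W).toScheme := ⟨fun y => hW y.1 y.2⟩
  refine IsZero.of_iso ?_
    ((EtStrictLoc.rightDerivedCompExactIso (EtModW.push Λ z) (EtModW.pull Λ W.ι) q).app H).symm
  obtain ⟨e'⟩ := nonempty_rightDerived_congr (EtUnbBC.restrIso Λ z W) q H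
  refine IsZero.of_iso ?_ e'
  let R := injectiveResolution H
  refine IsZero.of_iso ?_ (R.isoRightDerivedObj _ q)
  refine ((HomologicalComplex.exactAt_iff_isZero_homology _ _).1 ?_)
  exact ShortComplex.exact_of_isZero_X₂ _
    ((EtModW.push Λ (z ∣_ W)).map_isZero (isZero_of_isEmpty _))

/-- stalks at points over a subscheme where the restriction vanishes -/
theorem isZero_stalk_of_pull {X Y : Scheme.{u}} (f : Y ⟶ X) [IsImmersion f] {F : EtModW.Mod Λ X}
    (h : IsZero ((EtModW.pull Λ f).obj F)) {Ω : Type u} [Field Ω] [IsSepClosed Ω]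
    (ξ : Spec (CommRingCat.of Ω) ⟶ X) (hξ : ξ default ∈ Set.range f) :
    IsZero ((EtModW.stalk Λ ξ).obj F) := by
  obtain ⟨η, rfl⟩ := EtConsShriek.exists_factor ξ f (by
    rintro _ ⟨w, rfl⟩
    rw [Subsingleton.elim (α := Spec (CommRingCat.of Ω)) w default]
    exact hξ)
  haveI := (EtConsShriek.stalk_exact (Λ := Λ) η).1
  exact ((EtModW.stalk Λ η).map_isZero h).of_iso
    ((EtStalk.sheafFiberPullbackIso (EtCoh.bc f) (Scheme.pointSmallEtale (η ≫ f)) (Scheme.pointSmallEtale η)
      (EtStalk.fiberIso f η) (ModuleCat.{u + 1} Λ)).app F)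

/-- stalk isomorphisms over a subscheme where the restriction is an isomorphism -/
theorem isIso_stalk_of_pull {X Y : Scheme.{u}} (f : Y ⟶ X) [IsImmersion f] {F G : EtModW.Mod Λ X} (a : F ⟶ G)
    [IsIso ((EtModW.pull Λ f).map a)] {Ω : Type u} [Field Ω] [IsSepClosed Ω]
    (ξ : Spec (CommRingCat.of Ω) ⟶ X) (hξ : ξ default ∈ Set.range f) :
    IsIso ((EtModW.stalk Λ ξ).map a) := by
  obtain ⟨η, rfl⟩ := EtConsShriek.exists_factor ξ f (by
    rintro _ ⟨w, rfl⟩
    rw [Subsingleton.elim (α := Spec (CommRingCat.of Ω)) w default]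
    exact hξ)
  exact (isIso_stalk_iff f η a).2 inferInstance

/-- stalks vanish outside `D` -/
def SuppIn {X : Scheme.{u}} (D : Set X) (F : EtModW.Mod Λ X) : Prop :=
  ∀ (Ω : Type u) [Field Ω] [IsSepClosed Ω] (ξ : Spec (CommRingCat.of Ω) ⟶ X),
    ξ default ∉ D → IsZero ((EtModW.stalk Λ ξ).obj F)

theorem SuppIn.of_mono {X : Scheme.{u}} {D : Set X} {F G : EtModW.Mod Λ X} (a : F ⟶ G) [Mono a]
    (h : SuppIn D G) : SuppIn D F := fun Ω _ _ ξ hξ => by
  haveI := (EtConsShriek.stalk_exact (Λ := Λ) ξ).1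
  exact IsZero.of_mono ((EtModW.stalk Λ ξ).map a) (h Ω ξ hξ)

theorem SuppIn.of_epi {X : Scheme.{u}} {D : Set X} {F G : EtModW.Mod Λ X} (a : F ⟶ G) [Epi a]
    (h : SuppIn D F) : SuppIn D G := fun Ω _ _ ξ hξ => by
  haveI := (EtConsShriek.stalk_exact (Λ := Λ) ξ).2
  exact IsZero.of_epi ((EtModW.stalk Λ ξ).map a) (h Ω ξ hξ)

/-- the kernel is supported where the map is not an isomorphism on stalks -/
theorem suppIn_kernel {X : Scheme.{u}} {D D' : Set X} {F G : EtModW.Mod Λ X} (u : F ⟶ G) (hF : SuppIn D F)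
    (hiso : ∀ (Ω : Type u) [Field Ω] [IsSepClosed Ω] (ξ : Spec (CommRingCat.of Ω) ⟶ X),
      ξ default ∈ D → ξ default ∉ D' → IsIso ((EtModW.stalk Λ ξ).map u)) : SuppIn D' (kernel u) := by
  intro Ω _ _ ξ hξ
  by_cases hD : ξ default ∈ D
  · haveI := (EtConsShriek.stalk_exact (Λ := Λ) ξ).1
    haveI := hiso Ω ξ hD hξ
    refine IsZero.of_mono_eq_zero ((EtModW.stalk Λ ξ).map (kernel.ι u)) ?_
    rw [← cancel_mono ((EtModW.stalk Λ ξ).map u), ← Functor.map_comp, kernel.condition, zero_comp]
    haveI : (EtModW.stalk Λ ξ).PreservesZeroMorphisms := Functor.preservesZeroMorphisms_of_preserves_terminal_object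
    exact Functor.map_zero _ _ _
  · exact (hF.of_mono (kernel.ι u)) Ω ξ hD

/-- the cokernel is supported where the map is not an isomorphism on stalks -/
theorem suppIn_cokernel {X : Scheme.{u}} {D D' : Set X} {F G : EtModW.Mod Λ X} (u : F ⟶ G) (hG : SuppIn D G)
    (hiso : ∀ (Ω : Type u) [Field Ω] [IsSepClosed Ω] (ξ : Spec (CommRingCat.of Ω) ⟶ X),
      ξ default ∈ D → ξ default ∉ D' → IsIso ((EtModW.stalk Λ ξ).map u)) : SuppIn D' (cokernel u) := by
  intro Ω _ _ ξ hξ
  by_cases hD : ξ default ∈ D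
  · haveI := (EtConsShriek.stalk_exact (Λ := Λ) ξ).2
    haveI := hiso Ω ξ hD hξ
    refine IsZero.of_epi_eq_zero ((EtModW.stalk Λ ξ).map (cokernel.π u)) ?_
    rw [← cancel_epi ((EtModW.stalk Λ ξ).map u), ← Functor.map_comp, cokernel.condition, comp_zero]
    haveI : (EtModW.stalk Λ ξ).PreservesZeroMorphisms := Functor.preservesZeroMorphisms_of_preserves_initial_object
    exact Functor.map_zero _ _ _
  · exact (hG.of_epi (cokernel.π u)) Ω ξ hD

/-- higher direct images are supported in the closure of the image -/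
theorem suppIn_Rpush {X Y : Scheme.{u}} (z : Y ⟶ X) (D : Closeds X) (h : ∀ y, z y ∈ D) (H : EtModW.Mod Λ Y) (q : ℕ) :
    SuppIn (D : Set X) ((EtModW.Rpush Λ z q).obj H) := fun Ω _ _ ξ hξ => by
  let W : X.Opens := ⟨(D : Set X)ᶜ, D.isClosed.isOpen_compl⟩
  refine isZero_stalk_of_pull W.ι (isZero_pull_Rpush_disjoint z W (fun y hy => hy (h y)) H q) ξ ?_
  rw [Scheme.Opens.range_ι]
  exact hξ

variable [IsNoetherianRing Λ]

/-- constructible sheaves -/
def consS (X : Scheme.{u}) : ObjectProperty (EtModW.Mod Λ X) := fun F => EtModW.IsConstructible Λ F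

theorem isConstructible_zero {X : Scheme.{u}} {F : EtModW.Mod Λ X} (hF : IsZero F) : EtModW.IsConstructible Λ F :=
  IsConstructible.ofIso ((isZero_kernel_of_mono (𝟙 (EtModW.constMod Λ X Λ))).iso hF)
    (isConstructible_kernel_cokernel (𝟙 (EtModW.constMod Λ X Λ))
      (isConstructible_of_isFTLocConst (EtConsShriek.isFTLocConst_constMod Λ))
      (isConstructible_of_isFTLocConst (EtConsShriek.isFTLocConst_constMod Λ))).1

instance isSerreClass_consS {X : Scheme.{u}} [IsLocallyNoetherian X] : (consS (Λ := Λ) X).IsSerreClass where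
  exists_zero := ⟨_, isZero_zero _, isConstructible_zero (isZero_zero _)⟩
  prop_of_mono f _ h := ConsFinPush.isConstructible_sub f h
  prop_of_epi f _ h := ConsFinPush.isConstructible_quotient f h
  prop_X₂_of_shortExact hS h1 h3 := isConstructible_middle hS h1 h3

/-- direct images along closed immersions preserve constructibility -/
theorem isConstructible_pushClosed {X Y : Scheme.{u}} [IsLocallyNoetherian X] (c : Y ⟶ X) [IsClosedImmersion c]
    {F : EtModW.Mod Λ Y} (hF : EtModW.IsConstructible Λ F) :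
    EtModW.IsConstructible Λ ((EtModW.push Λ c).obj F) := by
  haveI : IsLocallyNoetherian Y := LocallyOfFiniteType.isLocallyNoetherian c
  rw [isConstructible_iff_goodAt]
  intro x
  obtain ⟨U, hU, hxU, -⟩ := EtCons.exists_affine_le (V := (⊤ : X.Opens)) (x := x) trivial
  haveI : NoetherianSpace (U : Set X) := by
    haveI : IsAffine U.toScheme := hU
    haveI : IsLocallyNoetherian U.toScheme := LocallyOfFiniteType.isLocallyNoetherian U.ι
    haveI : IsNoetherian U.toScheme := {}
    exact inferInstanceAs (NoetherianSpace U.toScheme)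
  by_cases hx : x ∈ Set.range c
  · obtain ⟨y, rfl⟩ := hx
    obtain ⟨T, j, hj, -, t, ht, -, hft⟩ := exists_generic_stratum hF y
    haveI := hj
    refine ⟨U, hU, hxU, T, j ≫ c, Subtype.val ⁻¹' Set.range (j ≫ c), inferInstance,
      EtCons.isConstructible_of_lc ((j ≫ c).isLocallyClosed_range.preimage continuous_subtype_val),
      ⟨hxU, ⟨t, by rw [Scheme.Hom.comp_apply, ht]⟩⟩, Set.image_preimage_subset _ _, ?_⟩
    exact IsFTLocConst.ofIso ((EtModW.pull Λ j).mapIso ((pullPushIso c).app F).symm ≪≫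
      ((EtSix.pullModComp Λ j c).app _).symm) hft
  · let W : X.Opens := ⟨(Set.range c)ᶜ, c.isClosedEmbedding.isClosed_range.isOpen_compl⟩
    refine ⟨U, hU, hxU, W.toScheme, W.ι, Subtype.val ⁻¹' (W : Set X), inferInstance,
      EtCons.isConstructible_of_lc (W.isOpen.isLocallyClosed.preimage continuous_subtype_val),
      ⟨hxU, hx⟩, ?_, ?_⟩
    · rw [Scheme.Opens.range_ι]; exact Set.image_preimage_subset _ _
    · have hz : IsZero ((EtModW.pull Λ W.ι).obj ((EtModW.push Λ c).obj F)) :=
        (isZero_pull_Rpush_disjoint c W (fun y hy => hy ⟨y, rfl⟩) F 0).of_iso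
          ((EtModW.pull Λ W.ι).mapIso ((EtModW.push Λ c).rightDerivedZeroIsoSelf.app F).symm)
      exact IsFTLocConst.ofIso ((isZero_kernel_of_mono (𝟙 (EtModW.constMod Λ W.toScheme Λ))).iso hz)
        (isFTLocConst_kernel (𝟙 (EtModW.constMod Λ W.toScheme Λ)) (EtConsShriek.isFTLocConst_constMod Λ)
          (EtConsShriek.isFTLocConst_constMod Λ))

/-- all higher direct images are constructible -/
def RG {U X : Scheme.{u}} (i : U ⟶ X) (F : EtModW.Mod Λ U) : Prop :=
  ∀ p : ℕ, EtModW.IsConstructible Λ ((EtModW.Rpush Λ i p).obj F)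

variable {U X : Scheme.{u}} [IsLocallyNoetherian X] (i : U ⟶ X)

theorem RG.ofIso {F G : EtModW.Mod Λ U} (e : F ≅ G) (h : RG i F) : RG i G := fun p =>
  IsConstructible.ofIso ((EtModW.Rpush Λ i p).mapIso e) (h p)

theorem RG.of_isZero {F : EtModW.Mod Λ U} (hF : IsZero F) : RG i F := fun p =>
  isConstructible_zero ((EtModW.Rpush Λ i p).map_isZero hF)

theorem RG.middle {S : ShortComplex (EtModW.Mod Λ U)} (hS : S.ShortExact) (h₁ : RG i S.X₁) (h₃ : RG i S.X₃) :
    RG i S.X₂ := fun p =>
  prop_of_exact (consS X) ((RDerLib.derivedLES (EtModW.push Λ i)).exact₂ _ hS p) (h₁ p) (h₃ p)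

theorem RG.left {S : ShortComplex (EtModW.Mod Λ U)} (hS : S.ShortExact) (h₂ : RG i S.X₂) (h₃ : RG i S.X₃) :
    RG i S.X₁ := fun p => by
  rcases p with _ | p
  · haveI := hS.mono_f
    haveI : ((EtModW.push Λ i).rightDerived 0).PreservesMonomorphisms :=
      Functor.PreservesMonomorphisms.of_iso (EtModW.push Λ i).rightDerivedZeroIsoSelf.symm
    exact (consS X).prop_of_mono (((EtModW.push Λ i).rightDerived 0).map S.f) (h₂ 0)
  · exact prop_of_exact (consS X) ((RDerLib.derivedLES (EtModW.push Λ i)).exact₁ _ hS p (p + 1) rfl) (h₃ p) (h₂ (p + 1))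

/-- the direct image of a sheaf whose higher direct images are harmless -/
theorem RG_push {Y : Scheme.{u}} (z : Y ⟶ U) (H : EtModW.Mod Λ Y)
    (hH : ∀ q : ℕ, 0 < q → RG i ((EtModW.Rpush Λ z q).obj H)) (hI : RG (z ≫ i) H) :
    RG i ((EtModW.push Λ z).obj H) := by
  let R := injectiveResolution H
  let I := ((EtModW.push Λ z).mapHomologicalComplex (ComplexShape.up ℕ)).obj R.cocomplex
  haveI : ∀ n, Injective (I.X n) := fun n => RPlusComp.pushMod_injective Λ z (R.cocomplex.X n)
  intro p
  refine IsConstructible.ofIso ((EtModW.Rpush Λ i p).mapIso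
    ((R.isoRightDerivedObj (EtModW.push Λ z) 0).symm ≪≫ (EtModW.push Λ z).rightDerivedZeroIsoSelf.app H)) ?_
  refine prop_rightDerived_homology_zero (EtModW.push Λ i) (consS X) I (fun q p hq => ?_) (fun m => ?_) p
  · exact IsConstructible.ofIso ((EtModW.Rpush Λ i p).mapIso (R.isoRightDerivedObj (EtModW.push Λ z) q)) (hH q hq p)
  · exact IsConstructible.ofIso ((R.isoRightDerivedObj (EtModW.push Λ (z ≫ i)) m) ≪≫
      (HomologicalComplex.homologyFunctor _ (ComplexShape.up ℕ) m).mapIso
        ((NatIso.mapHomologicalComplex (EtSix.pushModComp Λ i z).symm (ComplexShape.up ℕ)).app R.cocomplex)) (hI m)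

set_option maxHeartbeats 1000000 in
theorem RG.of_map {F G : EtModW.Mod Λ U} (f : F ⟶ G) (hK : RG i (kernel f)) (hG : RG i G)
    (hC : RG i (cokernel f)) : RG i F :=
  RG.middle i (shortExact_kernel_image f) hK (RG.left i (shortExact_image_cokernel f) hG hC)

theorem RG.of_map' {F G : EtModW.Mod Λ U} (f : F ⟶ G) (hK : RG i (kernel f)) (hIm : RG i (Abelian.image f)) :
    RG i F :=
  RG.middle i (shortExact_kernel_image f) hK hIm

variable [IsOpenImmersion i]

set_option maxHeartbeats 1000000 in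
/-- **dévissage on a Noetherian open**, over sufficiently small strata -/
theorem RG_of_good_strata [IsNoetherian U]
    (hgood : ∀ (x : U) (O : U.Opens), x ∈ O → ∃ O' : U.Opens, x ∈ O' ∧ O' ≤ O ∧
      ∀ (T : Scheme.{u}) (z : T ⟶ U) [IsImmersion z], Set.range z = (O' : Set U) ∩ closure {x} →
        ∀ H : EtModW.Mod Λ T, EtModW.IsFTLocConst Λ H → RG (z ≫ i) H) :
    ∀ (D : Closeds U) (F : EtModW.Mod Λ U), EtModW.IsConstructible Λ F → SuppIn (D : Set U) F → RG i F := by
  intro D
  induction D using WellFoundedLT.induction with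
  | _ D ih =>
    intro F hF hD
    -- kernels, cokernels and images of a map which is an isomorphism on part of `D`
    rcases Set.eq_empty_or_nonempty (D : Set U) with hne | hne
    · exact RG.of_isZero i (EtConsShriek.isZero_of_stalks fun Ω _ _ ξ => hD Ω ξ (by rw [hne]; exact Set.notMem_empty _))
    by_cases hirr : IsPreirreducible (D : Set U)
    · -- irreducible support: a dense stratum
      obtain ⟨x, hx⟩ := QuasiSober.sober ⟨hne, hirr⟩ D.isClosed
      obtain ⟨T₀, g₀, hg₀, -, t₀, ht₀, -, hft₀⟩ := exists_generic_stratum hF x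
      haveI := hg₀
      obtain ⟨O, hxO, hO⟩ : ∃ O : U.Opens, x ∈ O ∧ ∀ y ∈ O, y ∈ D → y ∈ Set.range g₀ := by
        obtain ⟨O, C, hO, hC, hOC⟩ := g₀.isLocallyClosed_range
        have hxr : x ∈ O ∩ C := hOC ▸ ⟨t₀, ht₀⟩
        refine ⟨⟨O, hO⟩, hxr.1, fun y hy hyD => ?_⟩
        rw [hOC]
        refine ⟨hy, ?_⟩
        have hyD' : y ∈ closure ({x} : Set U) := by rw [hx.def]; exact hyD
        exact hC.closure_subset_iff.2 (Set.singleton_subset_iff.2 hxr.2) hyD'
      obtain ⟨O', hxO', hO', hz⟩ := hgood x O hxO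
      replace hO : ∀ y ∈ O', y ∈ D → y ∈ Set.range g₀ := fun y hy hyD => hO y (hO' hy) hyD
      clear hO' hxO O
      obtain ⟨O, hxO, rfl⟩ : ∃ O : U.Opens, x ∈ O ∧ O = O' := ⟨O', hxO', rfl⟩
      obtain ⟨T, z, hzi, hTred, hzr⟩ := EtConsShriek.exists_reduced_immersion
        (O.isOpen.isLocallyClosed.inter D.isClosed.isLocallyClosed)
      haveI := hzi
      haveI := hTred
      obtain ⟨b, hb⟩ := EtConsShriek.exists_factor z g₀ (by
        rw [hzr]; rintro y ⟨hy1, hy2⟩; exact hO y hy1 hy2)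
      have hft : EtModW.IsFTLocConst Λ ((EtModW.pull Λ z).obj F) := by
        subst hb
        exact IsFTLocConst.ofIso ((EtSix.pullModComp Λ b g₀).app F).symm (isFTLocConst_pull b hft₀)
      let D' : Closeds U := ⟨(D : Set U) ∩ (O : Set U)ᶜ, D.isClosed.inter O.isOpen.isClosed_compl⟩
      have hlt : D' < D := by
        refine lt_of_le_of_ne (fun y hy => hy.1) fun h => ?_
        have hxD : x ∈ (D : Set U) := hx.mem
        rw [← h] at hxD
        exact hxD.2 hxO
      let H := (EtModW.pull Λ z).obj F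
      have hrange : ∀ y, z y ∈ D := fun y => by
        have : z y ∈ Set.range z := ⟨y, rfl⟩
        rw [hzr] at this
        exact this.2
      have honz : ∀ (Ω : Type u) [Field Ω] [IsSepClosed Ω] (ξ : Spec (CommRingCat.of Ω) ⟶ U),
          ξ default ∈ (D : Set U) → ξ default ∉ (D' : Set U) → ξ default ∈ Set.range z := fun Ω _ _ ξ h1 h2 => by
        rw [hzr]
        exact ⟨by_contra fun h => h2 ⟨h1, h⟩, h1⟩
      have hRcons : ∀ q, EtModW.IsConstructible Λ ((EtModW.Rpush Λ z q).obj H) := fun q => by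
        obtain ⟨e⟩ := nonempty_pull_Rpush i z H q
        exact IsConstructible.ofIso e (isConstructible_pull i (hz T z (by rw [hzr, hx.def]) H hft q))
      have hGcons : EtModW.IsConstructible Λ ((EtModW.push Λ z).obj H) :=
        IsConstructible.ofIso ((EtModW.push Λ z).rightDerivedZeroIsoSelf.app H) (hRcons 0)
      have hGsupp : SuppIn (D : Set U) ((EtModW.push Λ z).obj H) := by
        have := suppIn_Rpush z D hrange H 0
        exact this.of_mono ((EtModW.push Λ z).rightDerivedZeroIsoSelf.app H).inv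
      have hG : RG i ((EtModW.push Λ z).obj H) := by
        refine RG_push i z H (fun q hq => ih D' hlt _ (hRcons q) fun Ω _ _ ξ hξ => ?_)
          (hz T z (by rw [hzr, hx.def]) H hft)
        by_cases hξD : ξ default ∈ (D : Set U)
        · exact isZero_stalk_of_pull z (isZero_pull_Rpush z H q hq) ξ (honz Ω ξ hξD hξ)
        · exact suppIn_Rpush z D hrange H q Ω ξ hξD
      let u := (EtSix.pullPushModAdj Λ z).unit.app F
      haveI : IsIso ((EtModW.pull Λ z).map u) := by
        haveI := isIso_counit_imm (Λ := Λ) z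
        have h1 := (EtSix.pullPushModAdj Λ z).left_triangle_components F
        haveI : IsIso ((EtModW.pull Λ z).map u ≫ (EtSix.pullPushModAdj Λ z).counit.app ((EtModW.pull Λ z).obj F)) := by
          rw [h1]; exact IsIso.id _
        exact IsIso.of_isIso_comp_right _ ((EtSix.pullPushModAdj Λ z).counit.app ((EtModW.pull Λ z).obj F))
      have hK : RG i (kernel u) := ih D' hlt _ (ConsFinPush.isConstructible_sub (kernel.ι u) hF)
        (suppIn_kernel u hD fun Ω _ _ ξ h1 h2 => isIso_stalk_of_pull z u ξ (honz Ω ξ h1 h2))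
      have hC : RG i (cokernel u) := ih D' hlt _ (ConsFinPush.isConstructible_quotient (cokernel.π u) hGcons)
        (suppIn_cokernel u hGsupp fun Ω _ _ ξ h1 h2 => isIso_stalk_of_pull z u ξ (honz Ω ξ h1 h2))
      exact RG.of_map i u hK hG hC
    · -- reducible support: split along one of the pieces
      rw [isPreirreducible_iff_isClosed_union_isClosed] at hirr
      push Not at hirr
      obtain ⟨A, B, hA, hB, hAB, hnA, hnB⟩ := hirr
      let D₁ : Closeds U := ⟨(D : Set U) ∩ A, D.isClosed.inter hA⟩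
      let D₂ : Closeds U := ⟨(D : Set U) ∩ B, D.isClosed.inter hB⟩
      have h₁ : D₁ < D := lt_of_le_of_ne (fun y hy => hy.1) fun h => hnA fun y hy => by
        have : y ∈ (D₁ : Set U) := by rw [h]; exact hy
        exact this.2
      have h₂ : D₂ < D := lt_of_le_of_ne (fun y hy => hy.1) fun h => hnB fun y hy => by
        have : y ∈ (D₂ : Set U) := by rw [h]; exact hy
        exact this.2
      obtain ⟨T, c, hci, -, hcr⟩ := EtConsShriek.exists_reduced_immersion D₁.isClosed.isLocallyClosed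
      haveI := hci
      haveI : IsClosedImmersion c := .of_isPreimmersion c (by rw [hcr]; exact D₁.isClosed)
      let u := (EtSix.pullPushModAdj Λ c).unit.app F
      haveI : IsIso ((EtModW.pull Λ c).map u) := by
        haveI := isIso_counit_imm (Λ := Λ) c
        have h1 := (EtSix.pullPushModAdj Λ c).left_triangle_components F
        haveI : IsIso ((EtModW.pull Λ c).map u ≫ (EtSix.pullPushModAdj Λ c).counit.app ((EtModW.pull Λ c).obj F)) := by
          rw [h1]; exact IsIso.id _
        exact IsIso.of_isIso_comp_right _ ((EtSix.pullPushModAdj Λ c).counit.app ((EtModW.pull Λ c).obj F))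
      have hK : RG i (kernel u) := ih D₂ h₂ _ (ConsFinPush.isConstructible_sub (kernel.ι u) hF)
        (suppIn_kernel u hD fun Ω _ _ ξ h1 h2 => isIso_stalk_of_pull c u ξ (by
          rw [hcr]
          exact ⟨h1, (hAB h1).resolve_right fun h => h2 ⟨h1, h⟩⟩))
      have hs : SuppIn (D₁ : Set U) ((EtModW.push Λ c).obj ((EtModW.pull Λ c).obj F)) :=
        (suppIn_Rpush c D₁ (fun y => by
          have : c y ∈ Set.range c := ⟨y, rfl⟩
          rw [hcr] at this
          exact this) ((EtModW.pull Λ c).obj F) 0).of_mono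
          ((EtModW.push Λ c).rightDerivedZeroIsoSelf.app ((EtModW.pull Λ c).obj F)).inv
      haveI hep : Epi (Abelian.factorThruImage u) := epi_factorThruImage u
      have hc1 : EtModW.IsConstructible Λ (Abelian.image u) :=
        ConsFinPush.isConstructible_quotient (Λ := Λ) (Abelian.factorThruImage u) hF
      haveI hmo : Mono (Abelian.image.ι u) := mono_image_ι u
      have hc2 : SuppIn (D₁ : Set U) (Abelian.image u) := SuppIn.of_mono (Abelian.image.ι u) hs
      have hIm : RG i (Abelian.image u) := ih D₁ h₁ (Abelian.image u) hc1 hc2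
      exact RG.of_map' i u hK hIm

/-- **dévissage on a Noetherian open** -/
theorem RG_of_constructible [IsNoetherian U]
    (hz : ∀ (Y : Scheme.{u}) (z : Y ⟶ X) [IsImmersion z] (F : EtModW.Mod Λ Y), EtModW.IsFTLocConst Λ F → RG z F)
    (D : Closeds U) (F : EtModW.Mod Λ U) (hF : EtModW.IsConstructible Λ F) (hD : SuppIn (D : Set U) F) : RG i F :=
  RG_of_good_strata i (fun _ O hx => ⟨O, hx, le_rfl, fun T z _ _ H hH => hz T (z ≫ i) H hH⟩) D F hF hD

/-- restriction of a direct image to an open, on derived functors -/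
theorem nonempty_restr_Rpush {S T : Scheme.{u}} (f : T ⟶ S) (V : S.Opens) (F : EtModW.Mod Λ T) (p : ℕ) :
    Nonempty ((EtModW.pull Λ V.ι).obj ((EtModW.Rpush Λ f p).obj F) ≅
      (EtModW.Rpush Λ (f ∣_ V) p).obj ((EtModW.pull Λ (f ⁻¹ᵁ V).ι).obj F)) := by
  haveI := pull_exact (Λ := Λ) V.ι
  haveI := RPlusComp.pullMod_preservesFiniteLimits Λ (f ⁻¹ᵁ V).ι
  haveI : PreservesColimitsOfSize.{0, 0} (EtModW.pull Λ (f ⁻¹ᵁ V).ι) :=
    (EtSix.pullPushModAdj Λ (f ⁻¹ᵁ V).ι).leftAdjoint_preservesColimits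
  obtain ⟨e'⟩ := nonempty_rightDerived_congr (EtUnbBC.restrIso Λ f V) p F
  obtain ⟨e''⟩ := GrothSS.nonempty_rightDerived_comp_acyclic_nat (EtModW.pull Λ (f ⁻¹ᵁ V).ι) (EtModW.push Λ (f ∣_ V))
    (fun Q hQ k => by
      haveI := hQ
      haveI := EtUnbBC.injective_pull Λ (f ⁻¹ᵁ V) Q
      exact (EtModW.push Λ (f ∣_ V)).isZero_rightDerived_obj_injective_succ k _) p
  exact ⟨((EtStrictLoc.rightDerivedCompExactIso (EtModW.push Λ f) (EtModW.pull Λ V.ι) p).app F).symm ≪≫ e' ≪≫
    e''.app F⟩

/-- **(ii ter) implies (ii)** -/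
theorem isConstructible_Rpush_of_immersions
    (hz : ∀ (Y : Scheme.{u}) (z : Y ⟶ X) [IsImmersion z] (F : EtModW.Mod Λ Y), EtModW.IsFTLocConst Λ F → RG z F)
    (F : EtModW.Mod Λ U) (hF : EtModW.IsConstructible Λ F) : RG i F := fun p => by
  refine EtConsShriek.isConstructible_of_affine_pull fun V hV => ?_
  obtain ⟨e⟩ := nonempty_restr_Rpush i V F p
  refine IsConstructible.ofIso e.symm ?_
  haveI : IsAffine V.toScheme := hV
  haveI : IsLocallyNoetherian V.toScheme := LocallyOfFiniteType.isLocallyNoetherian V.ι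
  haveI : IsNoetherian V.toScheme := {}
  haveI : IsLocallyNoetherian (i ⁻¹ᵁ V).toScheme := LocallyOfFiniteType.isLocallyNoetherian (i ∣_ V)
  haveI : NoetherianSpace (i ⁻¹ᵁ V).toScheme := (i ∣_ V).isOpenEmbedding.isInducing.noetherianSpace
  haveI : IsNoetherian (i ⁻¹ᵁ V).toScheme := {}
  refine RG_of_constructible (i ∣_ V) (fun Y z _ H hH q => ?_) ⊤ _ (isConstructible_pull _ hF)
    (fun Ω _ _ ξ hξ => absurd trivial hξ) p
  obtain ⟨e₂⟩ := nonempty_pull_Rpush V.ι z H q
  exact IsConstructible.ofIso e₂ (isConstructible_pull V.ι (hz Y (z ≫ V.ι) H hH q))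

/-- **(ii) implies (ii ter)** -/
theorem isConstructible_Rpush_immersion
    (h : ∀ (W : Scheme.{u}) (j : W ⟶ X) [IsOpenImmersion j] (F : EtModW.Mod Λ W), EtModW.IsConstructible Λ F → RG j F)
    {Y : Scheme.{u}} (z : Y ⟶ X) [IsImmersion z] (F : EtModW.Mod Λ Y) (hF : EtModW.IsConstructible Λ F) : RG z F := by
  intro p
  let O : X.Opens := z.coborderRange
  let c : Y ⟶ O.toScheme := z.liftCoborder
  haveI : IsClosedImmersion c := inferInstance
  haveI := EtModShriek.pushMod_preservesFiniteColimits Λ c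
  obtain ⟨e₁⟩ := GrothSS.nonempty_rightDerived_comp_acyclic_nat (EtModW.push Λ c) (EtModW.push Λ O.ι)
    (fun Q hQ k => by
      haveI := hQ
      haveI := RPlusComp.pushMod_injective Λ c Q
      exact (EtModW.push Λ O.ι).isZero_rightDerived_obj_injective_succ k _) p
  obtain ⟨e₂⟩ := nonempty_rightDerived_congr
    (EtSix.pushModComp Λ O.ι c ≪≫ EtSix.pushModCongr Λ (show c ≫ O.ι = z from z.liftCoborder_ι)) p F
  exact IsConstructible.ofIso ((e₁.app F).symm ≪≫ e₂)
    (h O.toScheme O.ι _ (isConstructible_pushClosed c hF) p)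

end Groth.Agent.EtRpushCons

end
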