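import Groth.Agent.RDerLib.LES
import Mathlib.Algebra.Homology.ShortComplex.PreservesHomology
import Mathlib.CategoryTheory.Abelian.SerreClass.Basic

/-!
Higher derived functors of the degree-zero cohomology of a complex of injectives, up to a Serre class.
-/

set_option autoImplicit false
set_option backward.isDefEq.respectTransparency false
set_option backward.isDefEq.respectTransparency.types false
set_option linter.style.haveILetI false
set_option linter.unusedSectionVars false

universe w w' v v'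

open CategoryTheory CategoryTheory.Limits HomologicalComplex

noncomputable section

namespace Groth.Agent.EtRpushCons

variable {A : Type w} [Category.{v} A] [Abelian A] [EnoughInjectives A]
  {B : Type w'} [Category.{v'} B] [Abelian B] (G : A ⥤ B) [G.Additive] [PreservesFiniteLimits G]
  (P : ObjectProperty B) [P.IsSerreClass]

theorem prop_of_exact {S : ShortComplex B} (hS : S.Exact) (h₁ : P S.X₁) (h₃ : P S.X₃) : P S.X₂ :=
  P.prop_X₂_of_exact hS h₁ h₃

variable (I : CochainComplex A ℕ) [∀ n, Injective (I.X n)]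

/-- the boundaries in degree `q + 1` -/
abbrev bd (q : ℕ) : A := kernel (I.homologyπ (q + 1))

/-- `I^q → B^{q+1}` -/
def toBd (q : ℕ) : I.X q ⟶ bd I q :=
  kernel.lift (I.homologyπ (q + 1)) (I.toCycles q (q + 1)) (I.toCycles_comp_homologyπ q (q + 1))

theorem toBd_ι (q : ℕ) : toBd I q ≫ kernel.ι (I.homologyπ (q + 1)) = I.toCycles q (q + 1) := kernel.lift_ι _ _ _

/-- `0 → Z^q → I^q → B^{q+1} → 0` -/
def bdSC (q : ℕ) : ShortComplex A :=
  ShortComplex.mk (I.iCycles q) (toBd I q) (by
    rw [← cancel_mono (kernel.ι (I.homologyπ (q + 1))), ← cancel_mono (I.iCycles (q + 1))]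
    simp only [Category.assoc, zero_comp]
    rw [← Category.assoc (toBd I q), toBd_ι, I.toCycles_i, I.iCycles_d])

theorem bdSC_shortExact (q : ℕ) : (bdSC I q).ShortExact := by
  haveI : Mono (I.iCycles q) := inferInstance
  haveI : Epi (toBd I q) := by
    let T : ShortComplex A := ShortComplex.mk (I.toCycles q (q + 1)) (I.homologyπ (q + 1))
      (I.toCycles_comp_homologyπ q (q + 1))
    have hT : T.Exact := T.exact_of_g_is_cokernel (I.homologyIsCokernel q (q + 1) (by simp))
    have := (T.exact_iff_epi_kernel_lift).1 hT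
    exact this
  haveI : Mono (bdSC I q).f := inferInstanceAs (Mono (I.iCycles q))
  haveI : Epi (bdSC I q).g := inferInstanceAs (Epi (toBd I q))
  refine { exact := ?_ }
  refine ShortComplex.exact_of_f_is_kernel _ (KernelFork.IsLimit.ofι' _ _ fun {Z} φ hφ => ⟨?_, ?_⟩)
  · refine I.liftCycles φ (q + 1) (by simp) ?_
    have h := congrArg (fun t => t ≫ kernel.ι (I.homologyπ (q + 1)) ≫ I.iCycles (q + 1)) hφ
    simp only [zero_comp] at h
    change (φ ≫ toBd I q) ≫ kernel.ι (I.homologyπ (q + 1)) ≫ I.iCycles (q + 1) = 0 at h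
    rw [Category.assoc, ← Category.assoc (toBd I q), toBd_ι, I.toCycles_i] at h
    exact h
  · exact I.liftCycles_i _ _ _ _

/-- `0 → B^{q+1} → Z^{q+1} → H^{q+1} → 0` -/
def hSC (q : ℕ) : ShortComplex A :=
  ShortComplex.mk (kernel.ι (I.homologyπ (q + 1))) (I.homologyπ (q + 1)) (kernel.condition _)

theorem hSC_shortExact (q : ℕ) : (hSC I q).ShortExact :=
  { exact := ShortComplex.exact_of_f_is_kernel _ (kernelIsKernel _)
    mono_f := inferInstanceAs (Mono (kernel.ι (I.homologyπ (q + 1))))
    epi_g := inferInstanceAs (Epi (I.homologyπ (q + 1))) }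

/-- `G` commutes with cycles -/
def cyclesMapIso (n : ℕ) : G.obj (I.cycles n) ≅ ((G.mapHomologicalComplex (ComplexShape.up ℕ)).obj I).cycles n :=
  (KernelFork.mapIsLimit (KernelFork.ofι (I.iCycles n) (I.iCycles_d n (n + 1)))
    (I.cyclesIsKernel n (n + 1) (by simp)) G).conePointUniqueUpToIso
      (((G.mapHomologicalComplex (ComplexShape.up ℕ)).obj I).cyclesIsKernel n (n + 1) (by simp))

theorem cyclesMapIso_hom (n : ℕ) :
    (cyclesMapIso G I n).hom ≫ ((G.mapHomologicalComplex (ComplexShape.up ℕ)).obj I).iCycles n =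
      G.map (I.iCycles n) :=
  IsLimit.conePointUniqueUpToIso_hom_comp _ _ WalkingParallelPair.zero

/-- `G Z^{q+1} → H^{q+1}(G I)` -/
theorem exists_cokernel_hom (q : ℕ) :
    ∃ (π : G.obj (I.cycles (q + 1)) ⟶ ((G.mapHomologicalComplex _).obj I).homology (q + 1))
      (w : G.map (I.toCycles q (q + 1)) ≫ π = 0), (ShortComplex.mk _ _ w).Exact := by
  let S := ((G.mapHomologicalComplex (ComplexShape.up ℕ)).obj I)
  let e : G.obj (I.cycles (q + 1)) ≅ S.cycles (q + 1) := cyclesMapIso G I (q + 1)
  have he : G.map (I.toCycles q (q + 1)) ≫ e.hom = S.toCycles q (q + 1) := by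
    rw [← cancel_mono (S.iCycles (q + 1)), Category.assoc, S.toCycles_i,
      show e.hom ≫ S.iCycles (q + 1) = G.map (I.iCycles (q + 1)) from
        cyclesMapIso_hom G I (q + 1), ← G.map_comp, I.toCycles_i]
    rfl
  refine ⟨e.hom ≫ S.homologyπ (q + 1), by rw [← Category.assoc, he, S.toCycles_comp_homologyπ], ?_⟩
  let T : ShortComplex B := ShortComplex.mk (S.toCycles q (q + 1)) (S.homologyπ (q + 1))
    (S.toCycles_comp_homologyπ q (q + 1))
  refine (ShortComplex.exact_iff_of_iso ?_).1
    (T.exact_of_g_is_cokernel (S.homologyIsCokernel q (q + 1) (by simp)))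
  exact ShortComplex.isoMk (Iso.refl _) e.symm (Iso.refl _) (by
    change 𝟙 _ ≫ G.map (I.toCycles q (q + 1)) = S.toCycles q (q + 1) ≫ e.inv
    rw [Category.id_comp, ← he, Category.assoc, Iso.hom_inv_id, Category.comp_id]) (by
    change e.inv ≫ e.hom ≫ S.homologyπ (q + 1) = S.homologyπ (q + 1) ≫ 𝟙 _
    rw [Iso.inv_hom_id_assoc, Category.comp_id])

theorem isZero_rightDerived_X (q p : ℕ) : IsZero ((G.rightDerived (p + 1)).obj (I.X q)) :=
  G.isZero_rightDerived_obj_injective_succ p (I.X q)

variable (hH : ∀ (q p : ℕ), 0 < q → P ((G.rightDerived p).obj (I.homology q)))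
  (hI : ∀ m : ℕ, P (((G.mapHomologicalComplex _).obj I).homology m))

include hH hI in
theorem prop_rightDerived_cycles : ∀ (p q : ℕ), P ((G.rightDerived (p + 1)).obj (I.cycles q)) := by
  intro p
  let Δ := RDerLib.derivedLES G
  induction p with
  | zero =>
    intro q
    -- `R¹G(Z^q)` is a quotient of `G B^{q+1}` and embeds in `H^{q+1}(G I)`
    let δ := Δ.δ _ (bdSC_shortExact I q) 0 1 rfl
    haveI hepi : Epi δ :=
      (Δ.exact₁ _ (bdSC_shortExact I q) 0 1 rfl).epi_f ((isZero_rightDerived_X G I q 0).eq_of_tgt _ _)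
    let e₀ := G.rightDerivedZeroIsoSelf
    let g : G.obj (bd I q) ⟶ (G.rightDerived 1).obj (I.cycles q) := e₀.inv.app (bd I q) ≫ δ
    have hg : G.map (toBd I q) ≫ g = 0 := by
      have h3 : (G.rightDerived 0).map (toBd I q) ≫ δ = 0 := Δ.comp_δ _ (bdSC_shortExact I q) 0 1 rfl
      rw [← Category.assoc]
      erw [e₀.inv.naturality (toBd I q)]
      rw [Category.assoc, h3, comp_zero]
    have hgex : (ShortComplex.mk _ _ hg).Exact := by
      refine (ShortComplex.exact_iff_of_iso ?_).1 (Δ.exact₃ _ (bdSC_shortExact I q) 0 1 rfl)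
      refine ShortComplex.isoMk (e₀.app _) (e₀.app _) (Iso.refl _) ?_ ?_
      · exact (e₀.hom.naturality (toBd I q)).symm
      · change e₀.hom.app (bd I q) ≫ e₀.inv.app (bd I q) ≫ δ = δ ≫ 𝟙 _
        rw [Iso.hom_inv_id_app_assoc, Category.comp_id]
    haveI : Epi g := epi_comp _ _
    obtain ⟨π, w, hπ⟩ := exists_cokernel_hom G I q
    let c : G.obj (bd I q) ⟶ ((G.mapHomologicalComplex _).obj I).homology (q + 1) :=
      G.map (kernel.ι (I.homologyπ (q + 1))) ≫ π
    have hc : G.map (toBd I q) ≫ c = 0 := by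
      rw [← Category.assoc, ← G.map_comp, toBd_ι, w]
    let c' := hgex.desc c hc
    have hc' : g ≫ c' = c := hgex.g_desc c hc
    haveI : Mono c' := by
      refine Preadditive.mono_of_cancel_zero _ fun {Z} t ht => ?_
      obtain ⟨Z', r, hr, t', ht'⟩ := surjective_up_to_refinements_of_epi g t
      haveI := hr
      have h1 : (t' ≫ G.map (kernel.ι (I.homologyπ (q + 1)))) ≫ π = 0 := by
        rw [Category.assoc]
        change t' ≫ c = 0
        rw [← hc', ← Category.assoc, ← ht', Category.assoc, ht, comp_zero]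
      obtain ⟨Z'', r', hr', s, hs⟩ := hπ.exact_up_to_refinements _ h1
      haveI := hr'
      haveI : Mono (G.map (kernel.ι (I.homologyπ (q + 1)))) := inferInstance
      have h2 : r' ≫ t' = s ≫ G.map (toBd I q) := by
        rw [← cancel_mono (G.map (kernel.ι (I.homologyπ (q + 1)))), Category.assoc, Category.assoc, ← G.map_comp,
          toBd_ι]
        exact hs
      rw [← cancel_epi r, comp_zero, ht', ← cancel_epi r', comp_zero, ← Category.assoc, h2, Category.assoc, hg,
        comp_zero]
    exact P.prop_of_mono c' (hI (q + 1))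
  | succ p ih =>
    intro q
    have h1 : P ((G.rightDerived (p + 1)).obj (bd I q)) :=
      prop_of_exact P (Δ.exact₁ _ (hSC_shortExact I q) p (p + 1) rfl) (hH (q + 1) p q.succ_pos) (ih (q + 1))
    exact prop_of_exact P (Δ.exact₁ _ (bdSC_shortExact I q) (p + 1) (p + 2) rfl) h1
      (P.prop_of_isZero (isZero_rightDerived_X G I q (p + 1)))

include hH hI in
/-- **derived functors of the bottom cohomology** -/
theorem prop_rightDerived_homology_zero : ∀ p : ℕ, P ((G.rightDerived p).obj (I.homology 0)) := by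
  have e : I.cycles 0 ≅ I.homology 0 := CochainComplex.isoHomologyπ₀ I
  intro p
  rcases p with _ | p
  · let S := (G.mapHomologicalComplex (ComplexShape.up ℕ)).obj I
    exact P.prop_of_iso (((CochainComplex.isoHomologyπ₀ S).symm ≪≫ (cyclesMapIso G I 0).symm ≪≫ G.mapIso e ≪≫
      (G.rightDerivedZeroIsoSelf.app _).symm)) (hI 0)
  · exact P.prop_of_iso ((G.rightDerived (p + 1)).mapIso e) (prop_rightDerived_cycles G P I hH hI p 0)

end Groth.Agent.EtRpushCons

end
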